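import Mathlib.RingTheory.Valuation.LocalSubring
import Mathlib.RingTheory.DiscreteValuationRing.Basic
import Mathlib.FieldTheory.IsAlgClosed.AlgebraicClosure
import Mathlib.FieldTheory.SeparableClosure
import Mathlib.RingTheory.Polynomial.Basic
import Mathlib.RingTheory.LocalRing.ResidueField.Basic

/-!
# Unramified extensions of a discrete valuation ring with prescribed algebraic residue extension

We work inside a valuation subring `V` of an algebraically closed field `Ω` dominating `O`.
-/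

set_option autoImplicit false
set_option linter.style.haveILetI false
set_option linter.unusedSectionVars false

universe u v

open Polynomial

namespace Groth.Agent.H23ResExt

section alg

variable {Ω : Type u} [Field Ω] [IsAlgClosed Ω] (V : ValuationSubring Ω)

theorem mem_of_monic_root (g : Polynomial V) (hg : g.Monic) (r : Ω)
    (hr : (g.map (algebraMap V Ω)).eval r = 0) : r ∈ V := by
  have hi : IsIntegral V r := ⟨g, hg, by rw [← Polynomial.eval_map]; exact hr⟩
  obtain ⟨y, hy⟩ := IsIntegrallyClosed.isIntegral_iff.1 hi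
  rw [← hy]
  exact y.2

/-- Roots of a monic reduction lift to roots in `V`. -/
theorem exists_root_lift (g : Polynomial V) (hg : g.Monic) (a : IsLocalRing.ResidueField V)
    (ha : (g.map (IsLocalRing.residue V)).eval a = 0) :
    ∃ b : V, g.eval b = 0 ∧ IsLocalRing.residue V b = a := by
  classical
  let M := (g.map (algebraMap V Ω)).roots
  have hM : ∀ r ∈ M, r ∈ V := fun r hr =>
    mem_of_monic_root V g hg r ((mem_roots ((hg.map _).ne_zero)).1 hr)
  let M' : Multiset V := M.pmap (fun r h => (⟨r, h⟩ : V)) hM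
  have hM' : M'.map (algebraMap V Ω) = M := by
    rw [Multiset.map_pmap]
    exact (Multiset.pmap_eq_map _ _ _ hM).trans (Multiset.map_id' M)
  have hg' : g = (M'.map fun b => X - C b).prod := by
    apply Polynomial.map_injective (algebraMap V Ω) Subtype.val_injective
    rw [Polynomial.map_multiset_prod, Multiset.map_map]
    conv_rhs => rw [show M'.map (Polynomial.map (algebraMap V Ω) ∘ fun b => X - C b) =
      (M'.map (algebraMap V Ω)).map (fun r => X - C r) by
        rw [Multiset.map_map]; exact Multiset.map_congr rfl fun b _ => by simp]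
    rw [hM']
    exact (IsAlgClosed.splits _).eq_prod_roots_of_monic (hg.map _)
  rw [hg', Polynomial.map_multiset_prod, eval_multiset_prod, Multiset.prod_eq_zero_iff,
    Multiset.mem_map] at ha
  obtain ⟨p, hp, hp0⟩ := ha
  rw [Multiset.mem_map] at hp
  obtain ⟨q, hq, rfl⟩ := hp
  rw [Multiset.mem_map] at hq
  obtain ⟨b, hb, rfl⟩ := hq
  refine ⟨b, ?_, ?_⟩
  · rw [hg', eval_multiset_prod, Multiset.prod_eq_zero_iff, Multiset.mem_map]
    exact ⟨X - C b, Multiset.mem_map.2 ⟨b, hb, rfl⟩, by simp⟩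
  · simp only [Polynomial.map_sub, map_X, map_C, eval_sub, eval_X, eval_C, sub_eq_zero] at hp0
    exact hp0.symm

theorem isAlgClosed_residueField : IsAlgClosed (IsLocalRing.ResidueField V) := by
  refine IsAlgClosed.of_exists_root _ fun p hp hirr => ?_
  obtain ⟨g, hgp, -, hg⟩ :=
    lifts_and_natDegree_eq_and_monic (f := IsLocalRing.residue V) (p := p)
      (map_surjective (IsLocalRing.residue V) IsLocalRing.residue_surjective p) hp
  obtain ⟨r, hr⟩ := IsAlgClosed.exists_root (g.map (algebraMap V Ω)) (fun h => by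
    rw [hg.degree_map, ← hg.degree_map (IsLocalRing.residue V), hgp] at h
    exact (degree_pos_of_irreducible hirr).ne' h)
  refine ⟨IsLocalRing.residue V ⟨r, mem_of_monic_root V g hg r hr⟩, ?_⟩
  rw [← hgp, eval_map, eval₂_at_apply]
  have h0 : g.eval (⟨r, mem_of_monic_root V g hg r hr⟩ : V) = 0 := Subtype.val_injective (by
    change algebraMap V Ω (g.eval _) = 0
    rw [← eval₂_at_apply, ← eval_map]
    exact hr)
  rw [h0, map_zero]

end alg

variable {O : Type u} [CommRing O] [IsDomain O] [IsDiscreteValuationRing O]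
  {Ω : Type u} [Field Ω] [IsAlgClosed Ω] [Algebra O Ω] [Algebra.IsAlgebraic O Ω]
  (V : ValuationSubring Ω) (φ : O →+* V) (hφ : ∀ a, (φ a : Ω) = algebraMap O Ω a) [IsLocalHom φ]
  {k' : Type v} [Field k'] (e : k' →+* IsLocalRing.ResidueField V)
  (π : O) (hπ : Irreducible π)

/-- The integers of a subfield. -/
def ints (L : Subfield Ω) : Subring Ω := L.toSubring ⊓ V.toSubring

/-- `L` is unramified over `O` with residue field inside `e`. -/
structure Good (L : Subfield Ω) : Prop where
  base : ∀ a : O, algebraMap O Ω a ∈ L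
  res : ∀ x : V, (x : Ω) ∈ L → IsLocalRing.residue V x ∈ e.range
  unram : ∀ x : V, (x : Ω) ∈ L → IsLocalRing.residue V x = 0 → ∃ y : V, (y : Ω) ∈ L ∧ x = φ π * y

include hπ in
theorem residue_pi : IsLocalRing.residue V (φ π) = 0 := by
  rw [IsLocalRing.residue_eq_zero_iff, IsLocalRing.mem_maximalIdeal]
  exact fun h => hπ.not_isUnit (IsUnit.of_map φ π h)

include hπ hφ in
/-- No nonzero element of `V` is infinitely divisible by the uniformizer. -/
theorem exists_not_dvd_pow {x : V} (hx : x ≠ 0) : ∃ n : ℕ, ¬ φ π ^ n ∣ x := by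
  by_contra! h
  obtain ⟨p, hp0, hpx⟩ : IsAlgebraic O (x : Ω) := Algebra.IsAlgebraic.isAlgebraic _
  obtain ⟨q, hq, hq0, hqx⟩ : ∃ q : O[X], q ≠ 0 ∧ q.coeff 0 ≠ 0 ∧ aeval (x : Ω) q = 0 := by
    obtain ⟨q, hpq, hq⟩ := exists_eq_pow_rootMultiplicity_mul_and_not_dvd p hp0 0
    simp only [C_0, sub_zero] at hpq hq
    refine ⟨q, fun h0 => hq (h0 ▸ dvd_zero X), fun h0 => hq (X_dvd_iff.2 h0), ?_⟩
    rw [hpq, map_mul, map_pow, aeval_X, mul_eq_zero] at hpx
    exact hpx.resolve_left (pow_ne_zero _ (fun h0 => hx (Subtype.val_injective h0)))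
  have hV : (q.map φ).eval x = 0 := Subtype.val_injective (by
    change algebraMap V Ω ((q.map φ).eval x) = 0
    rw [eval_map, hom_eval₂, show (algebraMap V Ω).comp φ = algebraMap O Ω from RingHom.ext hφ]
    exact hqx)
  obtain ⟨m, w, hw⟩ := IsDiscreteValuationRing.eq_unit_mul_pow_irreducible hq0 hπ
  obtain ⟨c, hc⟩ : φ π ^ (m + 1) ∣ φ (q.coeff 0) := by
    have h1 : x ∣ (q.map φ).eval x - (q.map φ).eval 0 := by
      simpa using (sub_dvd_eval_sub x 0 (q.map φ))
    rw [hV, zero_sub, dvd_neg, ← coeff_zero_eq_eval_zero, coeff_map] at h1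
    exact (h _).trans h1
  rw [hw, map_mul, map_pow, pow_succ] at hc
  have hne : φ π ^ m ≠ 0 := pow_ne_zero _ fun h0 => by
    have h2 := h 1
    rw [h0, pow_one, zero_dvd_iff] at h2
    exact hx h2
  have h3 : φ (w : O) = φ π * c := mul_left_cancel₀ hne (by linear_combination hc)
  have h4 : IsUnit (φ π * c) := h3 ▸ w.isUnit.map φ
  exact hπ.not_isUnit (IsUnit.of_map φ π (isUnit_of_mul_isUnit_left h4))

variable {V φ π e}

include hπ hφ in
theorem Good.exists_decomp {L : Subfield Ω} (hL : Good V φ e π L) {x : V} (hxL : (x : Ω) ∈ L) (hx : x ≠ 0) :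
    ∃ (n : ℕ) (w : V), (w : Ω) ∈ L ∧ x = φ π ^ n * w ∧ IsLocalRing.residue V w ≠ 0 := by
  classical
  obtain ⟨N, hN⟩ := exists_not_dvd_pow V φ hφ π hπ hx
  induction N generalizing x with
  | zero => exact absurd (one_dvd x) (by simpa using hN)
  | succ N ih =>
    by_cases h0 : IsLocalRing.residue V x = 0
    · obtain ⟨y, hyL, rfl⟩ := hL.unram x hxL h0
      obtain ⟨n, w, hw, rfl, hw0⟩ := ih hyL (right_ne_zero_of_mul hx) (fun h => hN (by
        rw [pow_succ']; exact mul_dvd_mul_left _ h))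
      exact ⟨n + 1, w, hw, by rw [pow_succ', mul_assoc], hw0⟩
    · exact ⟨0, x, hxL, by simp, h0⟩

theorem inv_mem_of_residue_ne {x : V} (h : IsLocalRing.residue V x ≠ 0) :
    ∃ y : V, x * y = 1 ∧ (y : Ω) = (x : Ω)⁻¹ := by
  obtain ⟨y, hy⟩ := (IsLocalRing.notMem_maximalIdeal.1
    fun hm => h ((IsLocalRing.residue_eq_zero_iff _).2 hm)).exists_right_inv
  exact ⟨y, hy, eq_inv_of_mul_eq_one_right (congrArg Subtype.val hy)⟩

include hπ hφ in
theorem Good.exists_scale {L : Subfield Ω} (hL : Good V φ e π L) (c : Ω) (hc : c ∈ L) (hc0 : c ≠ 0) :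
    ∃ (n : ℤ) (w : V), (w : Ω) ∈ L ∧ c = (algebraMap O Ω π) ^ n * w ∧ IsLocalRing.residue V w ≠ 0 := by
  rcases V.mem_or_inv_mem c with h | h
  · obtain ⟨n, w, hw, e1, hw0⟩ := hL.exists_decomp hφ hπ (x := ⟨c, h⟩) hc
      (fun h0 => hc0 (congrArg Subtype.val h0))
    refine ⟨n, w, hw, ?_, hw0⟩
    rw [zpow_natCast, ← hφ]
    exact congrArg Subtype.val e1
  · obtain ⟨n, w, hw, e1, hw0⟩ := hL.exists_decomp hφ hπ (x := ⟨c⁻¹, h⟩) (L.inv_mem hc)
      (fun h0 => inv_ne_zero hc0 (congrArg Subtype.val h0))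
    obtain ⟨y, hy, hy'⟩ := inv_mem_of_residue_ne hw0
    refine ⟨-n, y, hy' ▸ L.inv_mem hw, ?_, fun h0 => ?_⟩
    · rw [zpow_neg, zpow_natCast, hy', ← mul_inv, ← hφ]
      exact eq_inv_of_mul_eq_one_left (by
        have e2 : c⁻¹ = (φ π : Ω) ^ n * (w : Ω) := congrArg Subtype.val e1
        rw [← e2, mul_inv_cancel₀ hc0])
    · have := congrArg (IsLocalRing.residue V) hy
      rw [map_mul, h0, mul_zero, map_one] at this
      exact zero_ne_one this

/-- The residue field of a good subfield. -/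
def Good.resField {L : Subfield Ω} (_hL : Good V φ e π L) : Subfield (IsLocalRing.ResidueField V) where
  carrier := (IsLocalRing.residue V) '' {x : V | (x : Ω) ∈ L}
  mul_mem' := by rintro _ _ ⟨x, hx, rfl⟩ ⟨y, hy, rfl⟩; exact ⟨x * y, L.mul_mem hx hy, map_mul _ x y⟩
  one_mem' := ⟨1, L.one_mem, map_one _⟩
  add_mem' := by rintro _ _ ⟨x, hx, rfl⟩ ⟨y, hy, rfl⟩; exact ⟨x + y, L.add_mem hx hy, map_add _ x y⟩
  zero_mem' := ⟨0, L.zero_mem, map_zero _⟩
  neg_mem' := by rintro _ ⟨x, hx, rfl⟩; exact ⟨-x, L.neg_mem hx, map_neg _ x⟩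
  inv_mem' := by
    rintro _ ⟨x, hx, rfl⟩
    by_cases h0 : IsLocalRing.residue V x = 0
    · rw [h0, inv_zero]; exact ⟨0, L.zero_mem, map_zero _⟩
    · obtain ⟨y, hy, hy'⟩ := inv_mem_of_residue_ne h0
      refine ⟨y, show (y : Ω) ∈ L by rw [hy']; exact L.inv_mem hx, eq_inv_of_mul_eq_one_right ?_⟩
      rw [← map_mul, hy, map_one]

theorem Good.resField_le {L : Subfield Ω} (hL : Good V φ e π L) : ∀ z ∈ hL.resField, z ∈ e.range := by
  rintro _ ⟨x, hx, rfl⟩; exact hL.res x hx

theorem pi_ne_zero [FaithfulSMul O Ω] (hφ : ∀ a, (φ a : Ω) = algebraMap O Ω a) (hπ : Irreducible π) : φ π ≠ 0 :=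
  fun h => hπ.ne_zero ((FaithfulSMul.algebraMap_injective O Ω)
    ((hφ π).symm.trans ((congrArg Subtype.val h).trans (map_zero _).symm)))

/-- One step: adjoin a lift of a residue class. -/
theorem Good.step [FaithfulSMul O Ω] {L : Subfield Ω} (hL : Good V φ e π L) (hφ : ∀ a, (φ a : Ω) = algebraMap O Ω a)
    (hπ : Irreducible π) (a : IsLocalRing.ResidueField V) (hae : a ∈ e.range)
    (ha : a ∉ hL.resField) (hint : IsIntegral hL.resField a) :
    ∃ β : Ω, β ∉ L ∧ IsSeparable L β ∧ IsIntegral L β ∧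
      Good V φ e π (IntermediateField.adjoin L {β}).toSubfield := by
  classical
  let kL := hL.resField
  let μ := minpoly kL a
  have hμ : μ.Monic := minpoly.monic hint
  let N := μ.natDegree
  have hN : 2 ≤ N := by
    refine (minpoly.two_le_natDegree_iff hint).2 ?_
    rintro ⟨z, hz⟩
    exact ha (hz ▸ z.2)
  -- the integers of `L` and their reduction
  let S := ints V L
  let toV : S →+* V := (Subring.subtype S).codRestrict V.toSubring fun x => x.2.2
  let ρ : S →+* kL := ((IsLocalRing.residue V).comp toV).codRestrict kL.toSubring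
    fun x => ⟨toV x, x.2.1, rfl⟩
  have hρ : Function.Surjective ρ := by
    rintro ⟨_, x, hx, rfl⟩
    exact ⟨⟨(x : Ω), hx, x.2⟩, Subtype.ext rfl⟩
  obtain ⟨g₀, hg₀, hdeg₀, hg₀m⟩ :=
    lifts_and_natDegree_eq_and_monic (f := ρ) (p := μ) (map_surjective ρ hρ μ) hμ
  let πS : S := ⟨algebraMap O Ω π, hL.base π, hφ π ▸ (φ π).2⟩
  have hρπ : ρ πS = 0 := Subtype.ext (by
    change IsLocalRing.residue V (toV πS) = 0
    rw [show toV πS = φ π from Subtype.ext (hφ π).symm]
    exact residue_pi V φ π hπ)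
  let t : S := if g₀.coeff 1 = 0 then πS else 0
  let g : Polynomial S := g₀ + C t * X
  have hlt : (C t * X).degree < g₀.degree := by
    refine lt_of_le_of_lt (degree_C_mul_X_le t) ?_
    rw [degree_eq_natDegree hg₀m.ne_zero, hdeg₀]
    exact_mod_cast hN
  have hgm : g.Monic := hg₀m.add_of_left hlt
  have hgdeg : g.natDegree = N := by
    rw [show g.natDegree = g₀.natDegree from natDegree_eq_of_degree_eq (degree_add_eq_left_of_degree_lt hlt), hdeg₀]
  have hgρ : g.map ρ = μ := by
    have : ρ t = 0 := by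
      simp only [t]; split_ifs
      · exact hρπ
      · exact map_zero ρ
    simp [g, Polynomial.map_add, hg₀, this]
  have hg1 : g.coeff 1 ≠ 0 := by
    simp only [g, coeff_add, coeff_C_mul, coeff_X_one, mul_one, t]
    split_ifs with h1
    · rw [h1, zero_add]
      intro h0
      exact pi_ne_zero hφ hπ (Subtype.ext ((hφ π).trans (congrArg Subtype.val h0)))
    · simpa using h1
  -- the root
  have hga : ((g.map toV).map (IsLocalRing.residue V)).eval a = 0 := by
    have h1 : (g.map toV).map (IsLocalRing.residue V) = μ.map kL.subtype := by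
      rw [← hgρ, Polynomial.map_map, Polynomial.map_map]
      rfl
    rw [h1, eval_map]
    exact minpoly.aeval kL a
  obtain ⟨b, hb, hba⟩ := exists_root_lift V (g.map toV) (hgm.map _) a hga
  let β : Ω := b
  let toL : S →+* L := (Subring.subtype S).codRestrict L.toSubring fun x => x.2.1
  let gL : Polynomial L := g.map toL
  have hgβ : aeval β gL = 0 := by
    have h1 := congrArg (algebraMap V Ω) hb
    rw [map_zero, eval_map, hom_eval₂] at h1
    rw [aeval_def, eval₂_map]
    exact h1
  have hβint : IsIntegral L β := ⟨gL, hgm.map _, hgβ⟩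
  -- key: scaled expansions
  have key : ∀ P : Polynomial L, P.natDegree < N → P ≠ 0 →
      ∃ (n : ℤ) (w : V) (Q : Polynomial L), (w : Ω) = aeval β Q ∧
        aeval β P = (algebraMap O Ω π) ^ n * w ∧ IsLocalRing.residue V w ∈ e.range ∧
        IsLocalRing.residue V w ≠ 0 := by
    intro P hP hP0
    have hsupp : P.support.Nonempty := support_nonempty.2 hP0
    choose! m w hwL hwe hw0 using fun i (hi : i ∈ P.support) =>
      hL.exists_scale hφ hπ (P.coeff i : Ω) (P.coeff i).2
        (fun h0 => mem_support_iff.1 hi (Subtype.ext h0))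
    obtain ⟨i₀, hi₀, hmin⟩ := Finset.exists_min_image P.support m hsupp
    let d : ℕ → S := fun i => if hi : i ∈ P.support then
      ⟨algebraMap O Ω π ^ (m i - m i₀).toNat * (w i : Ω),
        L.mul_mem (pow_mem (hL.base π) _) (hwL i hi),
        V.mul_mem _ _ (pow_mem (show algebraMap O Ω π ∈ V.toSubring from hφ π ▸ (φ π).2) _) (w i).2⟩
      else 0
    let Q₀ : Polynomial S := ∑ i ∈ P.support, C (d i) * X ^ i
    have hQdeg : (Q₀.map ρ).degree < μ.degree := by
      refine lt_of_le_of_lt degree_map_le (lt_of_le_of_lt (degree_sum_le _ _) ?_)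
      rw [Finset.sup_lt_iff (bot_lt_iff_ne_bot.2 (by rw [Ne, degree_eq_bot]; exact hμ.ne_zero))]
      intro i hi
      refine lt_of_le_of_lt (degree_C_mul_X_pow_le i (d i)) ?_
      rw [degree_eq_natDegree hμ.ne_zero]
      exact_mod_cast (le_natDegree_of_mem_supp i hi).trans_lt hP
    have hQ0 : Q₀.map ρ ≠ 0 := fun h0 => by
      have h1 := congrArg (fun F => F.coeff i₀) h0
      simp only [Q₀, Polynomial.map_sum, finset_sum_coeff, Polynomial.map_mul, map_C, Polynomial.map_pow,
        map_X, coeff_C_mul, coeff_X_pow, mul_ite, mul_one, mul_zero, Finset.sum_ite_eq, hi₀, if_pos,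
        coeff_zero] at h1
      refine hw0 i₀ hi₀ ?_
      have h2 := congrArg Subtype.val h1
      change IsLocalRing.residue V (toV (d i₀)) = 0 at h2
      rwa [show toV (d i₀) = w i₀ from Subtype.ext (by
        change ((d i₀ : S) : Ω) = _
        simp only [d, dif_pos hi₀, sub_self, Int.toNat_zero, pow_zero, one_mul])] at h2
    let W : V := (Q₀.map toV).eval b
    have hWres : IsLocalRing.residue V W = aeval a (Q₀.map ρ) := by
      change IsLocalRing.residue V ((Q₀.map toV).eval b) = _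
      rw [eval_map, hom_eval₂, hba, aeval_def, eval₂_map]
      rfl
    refine ⟨m i₀, W, Q₀.map toL, ?_, ?_, ?_, ?_⟩
    · change algebraMap V Ω ((Q₀.map toV).eval b) = _
      rw [eval_map, hom_eval₂, aeval_def, eval₂_map]
      rfl
    · rw [show (W : Ω) = algebraMap V Ω ((Q₀.map toV).eval b) from rfl, eval_map, hom_eval₂, aeval_eq_sum_range,
        eval₂_finset_sum, Finset.mul_sum]
      rw [Finset.sum_subset (s₁ := P.support) (fun i hi => Finset.mem_range.2
        (Nat.lt_succ_of_le (le_natDegree_of_mem_supp i hi))) (fun i _ hi => by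
          simp [notMem_support_iff.1 hi]) |>.symm]
      refine Finset.sum_congr rfl fun i hi => ?_
      simp only [eval₂_mul, eval₂_C, eval₂_pow, eval₂_X, RingHom.comp_apply]
      rw [show algebraMap V Ω (toV (d i)) = algebraMap O Ω π ^ (m i - m i₀).toNat * (w i : Ω) by
        change ((d i : S) : Ω) = _
        simp only [d, dif_pos hi], Algebra.smul_def]
      rw [show algebraMap L Ω (P.coeff i) = algebraMap O Ω π ^ m i * (w i : Ω) from hwe i hi]
      rw [← mul_assoc, ← mul_assoc, ← zpow_natCast (algebraMap O Ω π) (m i - m i₀).toNat,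
        ← zpow_add₀ (fun h0 => pi_ne_zero hφ hπ (Subtype.ext ((hφ π).trans h0)) : algebraMap O Ω π ≠ 0),
        Int.toNat_of_nonneg (sub_nonneg.2 (hmin i hi)), add_sub_cancel]
      rfl
    · rw [hWres, aeval_eq_sum_range]
      refine sum_mem fun i _ => ?_
      rw [Algebra.smul_def]
      exact mul_mem (hL.resField_le _ ((Q₀.map ρ).coeff i).2) (pow_mem hae i)
    · rw [hWres]
      intro h0
      exact (lt_of_lt_of_le hQdeg (minpoly.degree_le_of_ne_zero kL a hQ0 h0)).false
  have hπ0 : algebraMap O Ω π ≠ 0 := fun h0 => pi_ne_zero hφ hπ (Subtype.ext ((hφ π).trans h0))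
  -- degree
  have hminβ : minpoly L β = gL := by
    refine (minpoly.unique L β (hgm.map _) hgβ fun q hq hqβ => ?_).symm
    rw [degree_eq_natDegree (hgm.map _).ne_zero, degree_eq_natDegree hq.ne_zero, Nat.cast_le,
      hgm.natDegree_map, hgdeg]
    by_contra hlt'
    obtain ⟨n, w, Q, -, hw, -, hw0⟩ := key q (not_le.1 hlt') hq.ne_zero
    rw [hqβ, eq_comm, mul_eq_zero] at hw
    have hwz : w = 0 := Subtype.ext (hw.resolve_left (zpow_ne_zero _ hπ0))
    exact hw0 (hwz ▸ map_zero _)
  have hirr : Irreducible gL := hminβ ▸ minpoly.irreducible hβint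
  have hsep : IsSeparable L β := by
    change (minpoly L β).Separable
    rw [hminβ, separable_iff_derivative_ne_zero hirr]
    intro h0
    have h1 := congrArg (fun F : Polynomial L => F.coeff 0) h0
    simp only [coeff_derivative, coeff_zero, gL, coeff_map] at h1
    apply hg1
    apply Subtype.ext
    have h2 := congrArg Subtype.val h1
    simp [toL] at h2
    first | exact h2 | exact congrArg (fun z : L => (z : Ω)) h2 | exact congrArg Subtype.val h2
  have hβL : β ∉ L := fun hmem => ha ⟨b, hmem, hba⟩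
  refine ⟨β, hβL, hsep, hβint, ?_⟩
  have hmem : ∀ x : Ω, x ∈ IntermediateField.adjoin L {β} →
      ∃ P : Polynomial L, P.natDegree < N ∧ aeval β P = x := by
    intro x hx
    rw [← IntermediateField.mem_toSubalgebra,
      IntermediateField.adjoin_simple_toSubalgebra_of_isAlgebraic hβint.isAlgebraic,
      Algebra.adjoin_singleton_eq_range_aeval] at hx
    obtain ⟨P, rfl⟩ := hx
    refine ⟨P %ₘ gL, ?_, ?_⟩
    · have hNe : gL.natDegree = N := by rw [hgm.natDegree_map, hgdeg]
      have := natDegree_modByMonic_lt P (hgm.map toL) (fun h1 => by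
        have : (gL).natDegree = 0 := by rw [show gL = 1 from h1, natDegree_one]
        omega)
      change (P %ₘ gL).natDegree < gL.natDegree at this
      omega
    · rw [modByMonic_eq_sub_mul_div P gL, map_sub, map_mul, hgβ, zero_mul, sub_zero]
      rfl
  have hadj : ∀ Q : Polynomial L, aeval β Q ∈ IntermediateField.adjoin L {β} := fun Q =>
    IntermediateField.algebra_adjoin_le_adjoin L {β} (Algebra.adjoin_singleton_eq_range_aeval L β ▸ ⟨Q, rfl⟩)
  have hπadj : algebraMap O Ω π ∈ IntermediateField.adjoin L {β} :=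
    IntermediateField.algebraMap_mem _ (⟨_, hL.base π⟩ : L)
  have hneg : ∀ (n : ℤ) (x w : V), (x : Ω) = algebraMap O Ω π ^ n * w →
      IsLocalRing.residue V w ≠ 0 → 0 ≤ n := by
    intro n x w hx hw0
    by_contra hlt'
    obtain ⟨j, hj⟩ := Int.exists_eq_neg_ofNat (le_of_lt (not_le.1 hlt'))
    obtain rfl := hj
    have h1 : w = φ π ^ j * x := Subtype.ext (by
      change (w : Ω) = (φ π : Ω) ^ j * (x : Ω)
      rw [hx, hφ, ← mul_assoc, ← zpow_natCast, ← zpow_add₀ hπ0, add_neg_cancel, zpow_zero, one_mul])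
    obtain ⟨j', rfl⟩ := Nat.exists_eq_succ_of_ne_zero (show j ≠ 0 by omega)
    apply hw0
    rw [h1, map_mul, map_pow, residue_pi V φ π hπ, zero_pow (Nat.succ_ne_zero _), zero_mul]
  refine ⟨fun c => IntermediateField.algebraMap_mem _ (⟨_, hL.base c⟩ : L), fun x hx => ?_,
    fun x hx h0 => ?_⟩
  · obtain ⟨P, hP, hPx⟩ := hmem x hx
    by_cases hP0 : P = 0
    · rw [show x = 0 from Subtype.ext (by rw [← hPx, hP0, map_zero]; rfl), map_zero]
      exact zero_mem _
    obtain ⟨n, w, Q, hwQ, hw, hwe, hw0⟩ := key P hP hP0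
    obtain ⟨j, rfl⟩ := Int.eq_ofNat_of_zero_le (hneg n x w (hPx.symm.trans hw) hw0)
    have hxw : x = φ π ^ j * w := Subtype.ext (by
      change (x : Ω) = (φ π : Ω) ^ j * (w : Ω)
      rw [hφ, ← zpow_natCast]
      exact hPx.symm.trans hw)
    rw [hxw, map_mul, map_pow, residue_pi V φ π hπ]
    cases j with
    | zero => simpa using hwe
    | succ j => rw [zero_pow (Nat.succ_ne_zero _), zero_mul]; exact zero_mem _
  · obtain ⟨P, hP, hPx⟩ := hmem x hx
    by_cases hP0 : P = 0
    · exact ⟨0, zero_mem _, Subtype.ext (by rw [← hPx, hP0, map_zero]; simp)⟩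
    obtain ⟨n, w, Q, hwQ, hw, hwe, hw0⟩ := key P hP hP0
    obtain ⟨j, rfl⟩ := Int.eq_ofNat_of_zero_le (hneg n x w (hPx.symm.trans hw) hw0)
    have hxw : x = φ π ^ j * w := Subtype.ext (by
      change (x : Ω) = (φ π : Ω) ^ j * (w : Ω)
      rw [hφ, ← zpow_natCast]
      exact hPx.symm.trans hw)
    cases j with
    | zero => exact absurd (by simpa [hxw] using h0) hw0
    | succ j =>
      refine ⟨φ π ^ j * w, ?_, by rw [hxw, pow_succ', mul_assoc]⟩
      change (φ π : Ω) ^ j * (w : Ω) ∈ IntermediateField.adjoin L {β}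
      rw [hφ, hwQ]
      exact mul_mem (pow_mem hπadj j) (hadj Q)

end Groth.Agent.H23ResExt
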